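import Groth.Agent.MorLib.ElemEtaleFinite
import Groth.Agent.MorLib.WeightLocal
import Groth.Agent.FibDim.Basic
import Groth.Prelude.Def_MoreMor
import Groth.Prelude.Def_CAlg

/-!
Small lemmas: points of fibre products over trivial residue extensions, and Cohen-Macaulay maximal points of fibres.
-/

universe u
set_option autoImplicit false
set_option linter.style.haveILetI false
set_option backward.isDefEq.respectTransparency.types false
open AlgebraicGeometry CategoryTheory CategoryTheory.Limits

namespace Groth.Agent.SmallMorX

variable {X S U : Scheme.{u}} (f : X ⟶ S) (g : U ⟶ S)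

/-- A point of a fibre product is determined by its projections when the residue extension is trivial. -/
theorem point_ext {w w' : ↑(pullback f g)}
    (hs : Function.Surjective (g.residueFieldMap (pullback.snd f g w)))
    (h1 : pullback.fst f g w = pullback.fst f g w') (h2 : pullback.snd f g w = pullback.snd f g w') :
    w = w' := by
  apply (Scheme.Pullback.carrierEquiv (f := f) (g := g)).injective
  have hy : (Scheme.Pullback.carrierEquiv w).1.y = pullback.snd f g w := rfl
  have hT : (Scheme.Pullback.carrierEquiv (f := f) (g := g) w).1 = (Scheme.Pullback.carrierEquiv w').1 :=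
    Scheme.Pullback.Triplet.ext h1 h2
  rw [← hy] at hs
  generalize Scheme.Pullback.carrierEquiv (f := f) (g := g) w = A at hs hT ⊢
  generalize Scheme.Pullback.carrierEquiv (f := f) (g := g) w' = B at hT ⊢
  obtain ⟨T, p⟩ := A
  obtain ⟨T', p'⟩ := B
  obtain rfl : T = T' := hT
  haveI : IsIso (g.residueFieldMap T.y) :=
    (ConcreteCategory.isIso_iff_bijective _).2 ⟨(g.residueFieldMap T.y).hom.injective, hs⟩
  haveI : IsIso T.tensorInl := by
    unfold Scheme.Pullback.Triplet.tensorInl
    haveI : IsIso ((S.residueFieldCongr T.hy).inv ≫ g.residueFieldMap T.y) := inferInstance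
    exact pushout_inl_iso_of_right_iso _ _
  haveI : Subsingleton ↥(Spec T.tensor) :=
    @Function.Injective.subsingleton _ _ (Spec.map T.tensorInl) (Spec.map T.tensorInl).isOpenEmbedding.injective
      (inferInstanceAs (Subsingleton (PrimeSpectrum (X.residueField T.x))))
  rw [Subsingleton.elim p p']

/-- A Noetherian local ring of dimension zero is Cohen-Macaulay. -/
theorem isCM_of_subsingleton_spec (R : Type u) [CommRing R] [IsLocalRing R] [IsNoetherianRing R]
    [Subsingleton (PrimeSpectrum R)] : LocCoh.IsCohenMacaulayLocalRing R where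
  supportDim_eq_depth := by
    have hd : LocCoh.depth R R = 0 := by
      unfold LocCoh.depth LocCoh.idealDepth
      rw [if_neg]
      · refine le_antisymm (iSup₂_le fun rs hrs => ?_) bot_le
        obtain ⟨hreg, hmem⟩ := hrs
        rcases rs with _ | ⟨r, rs⟩
        · simp
        · exfalso
          have h1 := ((RingTheory.Sequence.isWeaklyRegular_cons_iff R r rs).1 hreg).1
          have hnil : IsNilpotent r := by
            rw [nilpotent_iff_mem_prime]
            intro J hJ
            have h3 : (⟨J, hJ⟩ : PrimeSpectrum R) = IsLocalRing.closedPoint R := Subsingleton.elim _ _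
            rw [show J = IsLocalRing.maximalIdeal R from congrArg PrimeSpectrum.asIdeal h3]
            exact hmem r (List.mem_cons_self ..)
          obtain ⟨n, hn⟩ := hnil
          exact one_ne_zero (h1.pow n (show r ^ n • (1 : R) = r ^ n • (0 : R) by rw [hn, zero_smul, zero_smul]))
      · rw [smul_eq_mul, Ideal.mul_top]
        exact (IsLocalRing.maximalIdeal.isMaximal R).ne_top
    rw [hd, Module.supportDim_self_eq_ringKrullDim]
    exact Order.krullDim_eq_zero

/-- The maximal points of the fibres of a flat morphism are Cohen-Macaulay points. -/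
theorem isCMAt_of_fibMax [Flat f] [LocallyOfFiniteType f] {z : X} (hz : FibDim.FibMax f z) :
    MoreMor.IsCMAt f z := by
  refine ⟨Flat.stalkMap f z, ?_⟩
  have hmax := (FibDim.fibMax_fiberι_iff f (f.asFiber z)).1 (by rwa [Scheme.Hom.fiberι_asFiber])
  haveI : IsLocallyNoetherian (f.fiber (f z)) :=
    LocallyOfFiniteType.isLocallyNoetherian (f.fiberToSpecResidueField (f z))
  haveI : Subsingleton (PrimeSpectrum ((f.fiber (f z)).presheaf.stalk (f.asFiber z))) := by
    refine ⟨fun a b => ((f.fiber (f z)).fromSpecStalk (f.asFiber z)).isEmbedding.injective ?_⟩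
    have key : ∀ q : ↥(Spec ((f.fiber (f z)).presheaf.stalk (f.asFiber z))),
        (f.fiber (f z)).fromSpecStalk (f.asFiber z) q = f.asFiber z := fun q => hmax _ (by
      have : (f.fiber (f z)).fromSpecStalk (f.asFiber z) q ∈
          Set.range ((f.fiber (f z)).fromSpecStalk (f.asFiber z)) := ⟨q, rfl⟩
      rwa [Scheme.range_fromSpecStalk] at this)
    exact (key a).trans (key b).symm
  exact isCM_of_subsingleton_spec _

end Groth.Agent.SmallMorX
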