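import Groth.Agent.AlgSpLib.SmLift.Small

/-!
Smoothness of morphisms of schemes from lifting along small extensions of Artinian local rings.
-/

set_option backward.isDefEq.respectTransparency false
set_option backward.isDefEq.respectTransparency.types false
set_option linter.style.haveILetI false
universe u

open CategoryTheory CategoryTheory.Limits AlgebraicGeometry CommRingCat IsLocalRing
open Groth.Agent.AlgSpLib.SmLift

namespace Groth.Agent.SmallMorX

theorem smooth_of_small {X S : Scheme.{u}} (f : X ⟶ S) [IsLocallyNoetherian S] [LocallyOfFiniteType f]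
    (H : ∀ (B B' : Type u) [CommRing B] [CommRing B'] [IsArtinianRing B] [IsArtinianRing B'] [IsLocalRing B] [IsLocalRing B']
      (φ : B' →+* B) (ε : B'), Function.Surjective φ → RingHom.ker φ = Ideal.span {ε} → (∀ m ∈ IsLocalRing.maximalIdeal B', ε * m = 0) →
      ∀ (α : Spec (CommRingCat.of B) ⟶ X) (β : Spec (CommRingCat.of B') ⟶ S), LocallyOfFiniteType β →
        Spec.map (CommRingCat.ofHom φ) ≫ β = α ≫ f →
        ∃ γ : Spec (CommRingCat.of B') ⟶ X, Spec.map (CommRingCat.ofHom φ) ≫ γ = α ∧ γ ≫ f = β) :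
    Smooth f := by
  refine smooth_of_forall_maximal f fun Vi hVi Ui hUi hle P hP => ?_
  have hPU : hUi.fromSpec P ∈ Ui := by
    have : hUi.fromSpec P ∈ Set.range hUi.fromSpec := ⟨P, rfl⟩
    rwa [hUi.range_fromSpec] at this
  haveI : P.asIdeal.IsMaximal := hP
  rw [Groth.Agent.S2793.result f (hUi.fromSpec P)]
  intro A' _ _ _ h' _ I hI hIm g₀ hc hloc hres
  obtain ⟨n, fI, hfI⟩ := Submodule.fg_iff_exists_fin_generating_family.1
    (IsNoetherian.noetherian I : I.FG)
  have hfm : ∀ i, fI i ∈ maximalIdeal A' := fun i =>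
    le_maximalIdeal hI (hfI ▸ Submodule.subset_span ⟨i, rfl⟩)
  have hf0 : ∀ i, ∀ a ∈ maximalIdeal A', a * fI i = 0 := fun i a ha => by
    have : fI i * a ∈ I * maximalIdeal A' :=
      Ideal.mul_mem_mul (hfI ▸ Submodule.subset_span ⟨i, rfl⟩) ha
    rw [hIm, Ideal.mem_bot] at this
    rwa [mul_comm]
  subst hfI
  refine exists_lift_of_principal (f.stalkMap _).hom ?_ n A' h' fI hfm hf0 ?_ g₀ hc hloc hres
  · intro C _ _ _ k t ht htm hu g hgc hgloc hgres
    have hle2 : Ideal.span {t} ≤ maximalIdeal C := (Ideal.span_singleton_le_iff_mem _).2 ht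
    have : Nontrivial (C ⧸ Ideal.span {t}) := Ideal.Quotient.nontrivial_iff.2 fun hh =>
      (maximalIdeal.isMaximal C).ne_top (top_le_iff.1 (hh ▸ hle2))
    have : IsLocalRing (C ⧸ Ideal.span {t}) :=
      IsLocalRing.of_surjective' (Ideal.Quotient.mk _) Ideal.Quotient.mk_surjective
    have hmax : maximalIdeal (C ⧸ Ideal.span {t}) =
        (maximalIdeal C).map (Ideal.Quotient.mk (Ideal.span {t})) :=
      (map_maximalIdeal_of_surjective _ Ideal.Quotient.mk_surjective).symm
    have hgl : IsLocalHom g := ⟨fun o ho => by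
      by_contra hn
      exact (mem_maximalIdeal _).1 (hmax ▸ hgloc o hn : g o ∈ maximalIdeal _) ho⟩
    let π : C →+* C ⧸ Ideal.span {t} := Ideal.Quotient.mk _
    let α : Spec (CommRingCat.of (C ⧸ Ideal.span {t})) ⟶ X :=
      Spec.map (ofHom g) ≫ X.fromSpecStalk (hUi.fromSpec P)
    let β : Spec (CommRingCat.of C) ⟶ S :=
      Spec.map (ofHom k) ≫ S.fromSpecStalk (f (hUi.fromSpec P))
    have hcomm : Spec.map (ofHom π) ≫ β = α ≫ f := by
      simp only [α, β, Category.assoc]
      rw [← Scheme.SpecMap_stalkMap_fromSpecStalk, ← Category.assoc, ← Category.assoc,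
        ← Spec.map_comp, ← Spec.map_comp]
      congr 2
      exact CommRingCat.hom_ext hgc.symm
    -- the test map to the base is of finite type
    have hβ : LocallyOfFiniteType β := by
      let vV := S.presheaf.germ Vi _ (hle hPU : f (hUi.fromSpec P) ∈ Vi)
      have hfac : β = Spec.map (ofHom (k.comp vV.hom)) ≫ hVi.fromSpec := by
        show Spec.map (ofHom k) ≫ S.fromSpecStalk (f (hUi.fromSpec P)) = _
        rw [← hVi.fromSpecStalk_eq_fromSpecStalk (hle hPU), IsAffineOpen.fromSpecStalk,
          ← Category.assoc, ← Spec.map_comp]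
        rfl
      rw [hfac]
      have hφ : (f.appLE Vi Ui hle).hom.FiniteType :=
        HasRingHomProperty.appLE @LocallyOfFiniteType f inferInstance ⟨Vi, hVi⟩ ⟨Ui, hUi⟩ hle
      let _ : Algebra Γ(S, Vi) Γ(X, Ui) := (f.appLE Vi Ui hle).hom.toAlgebra
      have : Algebra.FiniteType Γ(S, Vi) Γ(X, Ui) := hφ
      have hfactor : ∀ y ∈ (maximalIdeal C).map (Ideal.Quotient.mk (Ideal.span {t})),
          Ideal.Quotient.factor hle2 y = 0 := by
        intro y hy
        rw [Ideal.mem_map_iff_of_surjective _ Ideal.Quotient.mk_surjective] at hy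
        obtain ⟨y, hy, rfl⟩ := hy
        rw [Ideal.Quotient.factor_mk]
        exact Ideal.Quotient.eq_zero_iff_mem.2 hy
      let χ := (Ideal.Quotient.factor hle2).comp g
      have hsurj : Function.Surjective χ := fun z => by
        obtain ⟨z, rfl⟩ := Ideal.Quotient.mk_surjective z
        obtain ⟨c, hc'⟩ := hgres z
        refine ⟨c, ?_⟩
        have := hfactor _ hc'
        rw [map_sub, Ideal.Quotient.factor_mk, sub_eq_zero] at this
        exact this
      have hker : RingHom.ker χ = maximalIdeal _ := by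
        let _ := Ideal.Quotient.field (maximalIdeal C)
        exact IsLocalRing.eq_maximalIdeal
          (RingHom.ker_isMaximal_of_surjective (K := C ⧸ maximalIdeal C) χ hsurj)
      let gU := X.presheaf.germ Ui _ hPU
      have hft' : (k.comp vV.hom).FiniteType := by
        refine finiteType_of_residue (R := Γ(X, Ui)) (k.comp vV.hom) (χ.comp gU.hom) (fun z => ?_)
          (RingHom.ext fun q => ?_)
        · obtain ⟨o, rfl⟩ := hsurj z
          obtain ⟨r, hr⟩ := residue_surjective hUi P hPU o
          refine ⟨r, ?_⟩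
          rw [← hker, RingHom.mem_ker, map_sub, sub_eq_zero] at hr
          exact hr.symm
        · show Ideal.Quotient.factor hle2 (g (gU.hom ((f.appLE Vi Ui hle).hom q))) =
            Ideal.Quotient.mk _ (k (vV.hom q))
          have hst : (f.appLE Vi Ui hle) ≫ gU = vV ≫ f.stalkMap _ := by
            rw [Scheme.Hom.germ_stalkMap, Scheme.Hom.appLE, Category.assoc,
              TopCat.Presheaf.germ_res]
          have h1 : gU.hom ((f.appLE Vi Ui hle).hom q) = (f.stalkMap _).hom (vV.hom q) :=
            congrArg (fun m : Γ(S, Vi) ⟶ _ => m.hom q) hst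
          rw [h1, show g ((f.stalkMap _).hom (vV.hom q)) = _ from RingHom.congr_fun hgc _,
            RingHom.comp_apply, Ideal.Quotient.factor_mk]
      have : LocallyOfFiniteType (Spec.map (ofHom (k.comp vV.hom))) :=
        HasRingHomProperty.Spec_iff.2 hft'
      infer_instance
    obtain ⟨γ, hγ₁, hγ₂⟩ := H (C ⧸ Ideal.span {t}) C π t Ideal.Quotient.mk_surjective Ideal.mk_ker
      (fun m hm => by rw [mul_comm]; exact htm m hm) α β hβ hcomm
    have hαu : α (closedPoint _) = hUi.fromSpec P := by
      have : IsLocalHom (ofHom g).hom := hgl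
      show (Spec.map (ofHom g) ≫ X.fromSpecStalk _) _ = _
      rw [Scheme.Hom.comp_apply, Spec_closedPoint]
      exact Scheme.fromSpecStalk_closedPoint
    have hcl : γ (closedPoint C) = hUi.fromSpec P := by
      have h1 : (Spec.map (ofHom π) ≫ γ) (closedPoint _) = hUi.fromSpec P := by
        rw [hγ₁]; exact hαu
      have : IsLocalHom (ofHom π).hom :=
        IsLocalHom.of_surjective _ Ideal.Quotient.mk_surjective
      rwa [Scheme.Hom.comp_apply, Spec_closedPoint] at h1
    obtain ⟨G₀, hG₀⟩ : ∃ G₀ : X.presheaf.stalk (hUi.fromSpec P) ⟶ CommRingCat.of C,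
        Spec.map G₀ ≫ X.fromSpecStalk (hUi.fromSpec P) = γ := by
      have : ∀ x, γ (closedPoint C) = x → ∃ G₀ : X.presheaf.stalk x ⟶ CommRingCat.of C,
          Spec.map G₀ ≫ X.fromSpecStalk x = γ := by
        rintro _ rfl
        exact ⟨_, Scheme.Spec_stalkClosedPointTo_fromSpecStalk γ⟩
      exact this _ hcl
    refine ⟨G₀.hom, ?_, ?_⟩
    · have h1 : Spec.map (f.stalkMap _ ≫ G₀) ≫ S.fromSpecStalk (f (hUi.fromSpec P)) =
          Spec.map (ofHom k) ≫ S.fromSpecStalk (f (hUi.fromSpec P)) := by
        rw [Spec.map_comp, Category.assoc, Scheme.SpecMap_stalkMap_fromSpecStalk, reassoc_of% hG₀]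
        exact hγ₂
      exact congrArg CommRingCat.Hom.hom (Spec.map_injective ((cancel_mono _).1 h1))
    · have h1 : Spec.map (G₀ ≫ ofHom π) ≫ X.fromSpecStalk _ =
          Spec.map (ofHom g) ≫ X.fromSpecStalk _ := by
        rw [Spec.map_comp, Category.assoc, hG₀]
        exact hγ₁
      exact congrArg CommRingCat.Hom.hom (Spec.map_injective ((cancel_mono _).1 h1))
  · intro o ho
    have : IsUnit o := isUnit_of_map_unit h' o ho
    exact this.map _

end Groth.Agent.SmallMorX
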